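import Mathlib

/-! Linear maps between finite projective modules that are isomorphisms in codimension one. -/

universe u

namespace Groth.Agent.H1Cod

variable {R : Type u} [CommRing R]

/-- `f` is an isomorphism after inverting some element outside every prime of height at most one. -/
def IsoCodOne {M N : Type u} [AddCommGroup M] [Module R M] [AddCommGroup N] [Module R N]
    (f : M →ₗ[R] N) : Prop :=
  ∀ p : Ideal R, p.IsPrime → p.height ≤ 1 → ∃ r : R, r ∉ p ∧
    (∀ y : N, ∃ k : ℕ, ∃ x : M, f x = r ^ k • y) ∧ (∀ x : M, f x = 0 → ∃ k : ℕ, r ^ k • x = 0)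

theorem bijective_local [IsNoetherianRing R] [IsLocalRing R] {M N : Type u}
    [AddCommGroup M] [Module R M] [Module.Finite R M] [Module.Free R M]
    [AddCommGroup N] [Module R N] [Module.Finite R N] [Module.Free R N]
    (f : M →ₗ[R] N) (hf : IsoCodOne f) : Function.Bijective f := by
  classical
  have hinv : ∀ {ι κ : Type u} [Fintype ι] [Fintype κ] [DecidableEq ι] [DecidableEq κ]
      (b : Module.Basis ι R M) (c : Module.Basis κ R N) (p : Ideal R) [p.IsPrime], p.height ≤ 1 →
      ∃ X : Matrix ι κ (FractionRing (R ⧸ p)),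
        (LinearMap.toMatrix b c f).map (algebraMap R (FractionRing (R ⧸ p))) * X = 1 ∧
        X * (LinearMap.toMatrix b c f).map (algebraMap R (FractionRing (R ⧸ p))) = 1 := by
    intro ι κ _ _ _ _ b c p _ hp
    obtain ⟨r, hr, hs, hi⟩ := hf p inferInstance hp
    choose k x hx using fun j => hs (c j)
    let K₀ := Finset.univ.sup k
    let g : N →ₗ[R] M := c.constr R fun j => r ^ (K₀ - k j) • x j
    have hg : f.comp g = r ^ K₀ • LinearMap.id := by
      refine c.ext fun j => ?_
      rw [LinearMap.comp_apply, Module.Basis.constr_basis, map_smul, hx, smul_smul, ← pow_add,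
        Nat.sub_add_cancel (Finset.le_sup (Finset.mem_univ j))]
      rfl
    have hker : ∀ i, ∃ l : ℕ, r ^ l • (g (f (b i)) - r ^ K₀ • b i) = 0 := fun i => hi _ (by
      rw [map_sub, map_smul, show f (g (f (b i))) = r ^ K₀ • f (b i) from congrArg (fun φ => φ (f (b i))) hg,
        sub_self])
    choose l hl using hker
    let L₀ := Finset.univ.sup l
    have hgf : r ^ L₀ • g.comp f = r ^ (L₀ + K₀) • LinearMap.id := by
      refine b.ext fun i => ?_
      have h1 := congrArg (fun y => r ^ (L₀ - l i) • y) (hl i)
      have e := Nat.sub_add_cancel (Finset.le_sup (f := l) (Finset.mem_univ i))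
      simp only [smul_zero, smul_smul, smul_sub, ← pow_add, sub_eq_zero] at h1
      rw [← add_assoc, e] at h1
      exact h1
    let θ := algebraMap R (FractionRing (R ⧸ p))
    have hθ : θ r ≠ 0 := fun h => hr (Ideal.Quotient.eq_zero_iff_mem.1
      (IsFractionRing.injective (R ⧸ p) (FractionRing (R ⧸ p)) (h.trans (map_zero _).symm)))
    let A := (LinearMap.toMatrix b c f).map θ
    let B := (LinearMap.toMatrix c b g).map θ
    have hAB : A * B = θ r ^ K₀ • 1 := by
      have h1 := congrArg (fun φ => (LinearMap.toMatrix c c φ).map θ) hg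
      simp only [LinearMap.toMatrix_comp c b c, map_smul, LinearMap.toMatrix_id, Matrix.map_mul] at h1
      refine h1.trans ?_
      ext i j
      by_cases hij : i = j <;> simp [Matrix.map_apply, Matrix.one_apply, hij]
    have hBA : θ r ^ L₀ • (B * A) = θ r ^ (L₀ + K₀) • 1 := by
      have h1 := congrArg (fun φ => (LinearMap.toMatrix b b φ).map θ) hgf
      simp only [LinearMap.toMatrix_comp b c b, map_smul, LinearMap.toMatrix_id] at h1
      refine Eq.trans ?_ (h1.trans ?_)
      · rw [Matrix.map_smulₛₗ θ θ _ (fun _ => map_mul θ _ _), Matrix.map_mul, map_pow]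
      · ext i j
        by_cases hij : i = j <;> simp [Matrix.map_apply, Matrix.one_apply, hij]
    rw [pow_add, mul_smul] at hBA
    have hBA' := smul_right_injective _ (pow_ne_zero L₀ hθ) hBA
    refine ⟨(θ r ^ K₀)⁻¹ • B, ?_, ?_⟩
    · rw [Matrix.mul_smul, hAB, smul_smul, inv_mul_cancel₀ (pow_ne_zero _ hθ), one_smul]
    · rw [Matrix.smul_mul, hBA', smul_smul, inv_mul_cancel₀ (pow_ne_zero _ hθ), one_smul]
  let b := Module.Free.chooseBasis R M
  let c₀ := Module.Free.chooseBasis R N
  obtain ⟨q, hq⟩ := (Ideal.nonempty_minimalPrimes (R := R) (I := ⊥) bot_ne_top)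
  haveI := hq.1.1
  obtain ⟨X, hX1, hX2⟩ := hinv b c₀ q (by
    rw [show q.height = 0 from Ideal.height_eq_zero_iff.2 hq]; exact zero_le_one)
  have hcard : Fintype.card (Module.Free.ChooseBasisIndex R M) = Fintype.card (Module.Free.ChooseBasisIndex R N) := by
    have h := (LinearEquiv.ofLinear (Matrix.toLin' ((LinearMap.toMatrix b c₀ f).map (algebraMap R _)))
      (Matrix.toLin' X) (by rw [← Matrix.toLin'_mul, hX1, Matrix.toLin'_one])
      (by rw [← Matrix.toLin'_mul, hX2, Matrix.toLin'_one])).finrank_eq
    simpa using h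
  let e := Fintype.equivOfCardEq hcard
  let c := c₀.reindex e.symm
  have hu : IsUnit (LinearMap.toMatrix b c f).det := by
    by_contra hn
    have hle : Ideal.span {(LinearMap.toMatrix b c f).det} ≤ IsLocalRing.maximalIdeal R :=
      (Ideal.span_singleton_le_iff_mem _).2 hn
    obtain ⟨p, hp⟩ := Ideal.nonempty_minimalPrimes (I := Ideal.span {(LinearMap.toMatrix b c f).det})
      (ne_top_of_le_ne_top (IsLocalRing.maximalIdeal.isMaximal R).ne_top hle)
    haveI := hp.1.1
    obtain ⟨Y, hY1, -⟩ := hinv b c p (Ideal.height_le_one_of_isPrincipal_of_mem_minimalPrimes _ _ hp)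
    have h0 : algebraMap R (FractionRing (R ⧸ p)) (LinearMap.toMatrix b c f).det = 0 := by
      rw [IsScalarTower.algebraMap_apply R (R ⧸ p) (FractionRing (R ⧸ p)), Ideal.Quotient.algebraMap_eq,
        Ideal.Quotient.eq_zero_iff_mem.2 (hp.1.2 (Ideal.mem_span_singleton_self _)), map_zero]
    have h1 := congrArg Matrix.det hY1
    rw [Matrix.det_mul, ← RingHom.mapMatrix_apply, ← RingHom.map_det, h0, zero_mul, Matrix.det_one] at h1
    exact zero_ne_one h1
  exact (LinearEquiv.ofIsUnitDet hu).bijective

theorem bijective [IsNoetherianRing R] {M N : Type u}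
    [AddCommGroup M] [Module R M] [Module.Finite R M] [Module.Flat R M]
    [AddCommGroup N] [Module R N] [Module.Finite R N] [Module.Flat R N]
    (f : M →ₗ[R] N) (hf : IsoCodOne f) : Function.Bijective f := by
  refine bijective_of_localized_maximal f fun J _ => ?_
  haveI : IsLocalRing (Localization J.primeCompl) := IsLocalization.AtPrime.isLocalRing _ J
  haveI : IsNoetherianRing (Localization J.primeCompl) := IsLocalization.isNoetherianRing J.primeCompl _ inferInstance
  haveI : Module.Finite (Localization J.primeCompl) (LocalizedModule J.primeCompl M) :=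
    Module.Finite.of_isLocalizedModule J.primeCompl (LocalizedModule.mkLinearMap J.primeCompl M)
  haveI : Module.Finite (Localization J.primeCompl) (LocalizedModule J.primeCompl N) :=
    Module.Finite.of_isLocalizedModule J.primeCompl (LocalizedModule.mkLinearMap J.primeCompl N)
  haveI : Module.Free (Localization J.primeCompl) (LocalizedModule J.primeCompl M) :=
    Module.free_of_flat_of_isLocalRing
  haveI : Module.Free (Localization J.primeCompl) (LocalizedModule J.primeCompl N) :=
    Module.free_of_flat_of_isLocalRing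
  refine bijective_local _ fun p hp hh => ?_
  obtain ⟨r, hr, hs, hi⟩ := hf (p.under R) inferInstance
    ((IsLocalization.height_under J.primeCompl p).trans_le hh)
  refine ⟨algebraMap R _ r, hr, fun y => ?_, fun x hx => ?_⟩
  · induction y using LocalizedModule.induction_on with
    | h n s =>
      obtain ⟨k, x, hx⟩ := hs n
      refine ⟨k, LocalizedModule.mk x s, ?_⟩
      rw [LocalizedModule.map_mk, hx, ← map_pow, algebraMap_smul, LocalizedModule.smul'_mk]
  · induction x using LocalizedModule.induction_on with
    | h m s =>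
      rw [LocalizedModule.map_mk, ← LocalizedModule.zero_mk s, LocalizedModule.mk_eq] at hx
      obtain ⟨t, ht⟩ := hx
      simp only [smul_zero] at ht
      obtain ⟨k, hk⟩ := hi ((t * s) • m) (by rw [LinearMap.map_smul_of_tower, mul_smul]; exact ht)
      refine ⟨k, ?_⟩
      rw [← map_pow, algebraMap_smul, LocalizedModule.smul'_mk, ← LocalizedModule.zero_mk s, LocalizedModule.mk_eq]
      refine ⟨t, ?_⟩
      simp only [smul_zero]
      rw [smul_smul, smul_comm]; exact hk

end Groth.Agent.H1Cod
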